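import Cfsg.Agent.H384.HT.GTwoIn
import Cfsg.Agent.H825.HT.Tools
import Cfsg.Agent.H638.G2Iso

/-!
# S4933: `RowIn 3 G₂(q)`, `9 ∣ q + 1` (helper384)
-/

set_option autoImplicit false

open Cfsg Subgroup

namespace Cfsg.Agent.H384.HT.GTwo

open Cfsg.Agent.H316.HT

/-- the theorem of helper743 -/
def MomentTwo : Prop := ∀ (G : Type) [Group G] [Finite G] (M : Ideal AlgInt), IsPModular 3 M → ∀ (S : Sylow 3 G)
  (A : Subgroup G) (z : G), A ≤ S → (∀ a ∈ A, ∀ b ∈ A, a * b = b * a) → Nat.card (S : Subgroup G) = 3 * Nat.card A →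
  27 ≤ Nat.card A → z ∈ A → z ≠ 1 → z ^ 3 = 1 → (∃ a ∈ A, a ^ 3 = z) → z ∈ ⁅(S : Subgroup G), (S : Subgroup G)⁆ →
  (S : Subgroup G) ⊓ centralizer ((S : Subgroup G) : Set G) = zpowers z →
  (∀ g, Commute (g * z * g⁻¹) z → g * z * g⁻¹ = z ∨ g * z * g⁻¹ = z⁻¹) →
  ∃ χ : IrrCharacter G, χ ∈ principalBlock M G ∧ vd 3 (χ : G → ℂ) = 1

/-- **`RowIn 3` of `G₂(q)`, `9 ∣ q² - 1`.** -/
theorem rowIn_of (hT : MomentTwo) {F : Type} [Field F] [Fintype F] (h3 : (3 : F) ≠ 0)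
    (h9 : 9 ∣ Fintype.card F ^ 2 - 1) : RowIn 3 ↥(Lie.chevG2.group F) := by
  obtain ⟨e⟩ := Cfsg.Agent.H638.G2Iso.equiv (F := F)
  have hGL : Finite (GL Lie.chevG2.Idx F) := by
    have : Finite (Matrix Lie.chevG2.Idx Lie.chevG2.Idx F) := inferInstance
    infer_instance
  have : Fact (Nat.Prime 3) := ⟨Nat.prime_three⟩
  refine Cfsg.Agent.H825.HT.rowIn_of (MulEquiv.refl _) fun M hM => ?_
  obtain ⟨S⟩ : Nonempty (Sylow 3 ↥(Lie.chevG2.group F)) := inferInstance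
  obtain ⟨A, z, h1, h2, h4, h5, h6, h7, h8, h10, h11, h12, h13⟩ := inputs h3
    (by rw [Nat.card_eq_fintype_card]; exact h9) e.symm S
  exact hT _ M hM S A z h1 h2 h4 (by omega) h6 h7 h8 h10 h11 h12 h13

theorem three_ne_of {F : Type} [Field F] [Fintype F] (h : 9 ∣ Fintype.card F + 1) : (3 : F) ≠ 0 := by
  intro h0
  have h1 : addOrderOf (1 : F) ∣ 3 := by
    rw [addOrderOf_dvd_iff_nsmul_eq_zero]
    rw [nsmul_eq_mul, mul_one]
    exact_mod_cast h0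
  have h2 : addOrderOf (1 : F) ∣ Fintype.card F := addOrderOf_dvd_card
  rcases (Nat.dvd_prime Nat.prime_three).1 h1 with h4 | h4
  · rw [AddMonoid.addOrderOf_eq_one_iff] at h4
    exact one_ne_zero h4
  · rw [h4] at h2
    omega

theorem nine_of {n : ℕ} (hn : 1 ≤ n) (h : 9 ∣ n + 1) : 9 ∣ n ^ 2 - 1 := by
  obtain ⟨m, rfl⟩ : ∃ m, n = m + 1 := ⟨n - 1, by omega⟩
  have h1 : (m + 1) ^ 2 - 1 = (m + 1 + 1) * m := by
    have h2 : (m + 1) ^ 2 = (m + 1 + 1) * m + 1 := by ring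
    omega
  rw [h1]
  exact h.mul_right m

/-- **`RowIn 3` of `G₂(q)`, `9 ∣ q + 1`.** -/
theorem rowIn_g2_of (hT : MomentTwo) {F : Type} [Field F] [Fintype F] (h : 9 ∣ Fintype.card F + 1) :
    RowIn 3 ↥(Lie.chevG2.group F) :=
  rowIn_of hT (three_ne_of h) (nine_of Fintype.card_pos h)

end Cfsg.Agent.H384.HT.GTwo
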