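import Cfsg.Agent.H148.HT.DatDef
import Cfsg.Agent.OddHalf.DblR.HexG.Model

/-!
# S4933, `³D₄(q)`, `3 ∣ q + 1`: the quotient `GL₂(q)` of the parabolic subgroup `P` (helper384)

`exists_delta` : `P` acts on `X 2 X 4 = F²` as `GL₂(F)`; the radical acts trivially, `CC c` by scalars, `pa y` as `y`.
-/

set_option autoImplicit false

namespace Cfsg.Agent.H384.HT.Tri

open Cfsg.Agent.SplitTwo Cfsg.Agent.TitsThree.RankTwoZ Cfsg.Agent.Lib.SL2Mat Cfsg.Agent.Cit.HexBase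
  Cfsg.Agent.Cit.HexBase.HexGrp Cfsg.Agent.H148.SLTwo Cfsg.Agent.H148.Hex Cfsg.Agent.H148.HT Cfsg.Agent.H912.HT
open Matrix

universe u

variable {E : Type*} [Field E] {σ : E ≃+* E} {L : Type u} [Group L] (c : HexGrp σ L)

/-- the element of `X 2 X 4` with coordinates `v` -/
def zv (v : Fin 2 → ↥(fx σ)) : L := c.x2 (-(v 1 : E)) * c.x4 (v 0 : E)

theorem zv_V (v : Fin 2 → ↥(fx σ)) : V c (zv c v) (-(v 1 : E)) 0 (v 0 : E) := by
  have h1 : σ (-(v 1 : E)) = -(v 1 : E) := neg_fix (v 1).2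
  exact ((v2 c h1).mul (v4 c (v 0).2)).congr rfl (by ring) (by ring) (by ring)

theorem zv_of_V {g : L} {t2 t4 : E} (h : V c g t2 0 t4) : g = c.x2 t2 * c.x4 t4 := by
  rw [h.2.2, c.x3_zero, mul_one]

theorem zv_inj {v w : Fin 2 → ↥(fx σ)} (h : zv c v = zv c w) : v = w := by
  obtain ⟨h1, -, h2⟩ := (zv_V c v).unique ((zv_V c w).congr h.symm rfl rfl rfl)
  funext i
  fin_cases i
  · exact Subtype.ext h2
  · exact Subtype.ext (neg_injective h1)

/-- the element `p` acts as the matrix `m` -/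
def Del (p : L) (m : Matrix (Fin 2) (Fin 2) ↥(fx σ)) : Prop := ∀ v, p * zv c v * p⁻¹ = zv c (m.mulVec v)

variable {c}

theorem Del.mul {p q : L} {m n : Matrix (Fin 2) (Fin 2) ↥(fx σ)} (h : Del c p m) (h' : Del c q n) :
    Del c (p * q) (m * n) := by
  intro v
  have e : p * q * zv c v * (p * q)⁻¹ = p * (q * zv c v * q⁻¹) * p⁻¹ := by group
  rw [e, h', h, Matrix.mulVec_mulVec]

theorem Del.unique {p : L} {m n : Matrix (Fin 2) (Fin 2) ↥(fx σ)} (h : Del c p m) (h' : Del c p n) : m = n := by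
  apply Matrix.ext_of_mulVec_single
  intro i
  exact zv_inj c ((h _).symm.trans (h' _))

variable (c)

theorem del_one : Del c 1 1 := by
  intro v
  rw [one_mul, inv_one, mul_one, Matrix.one_mulVec]

theorem del_pa (y : SL2 ↥(fx σ)) : Del c (c.pa y) (y : Matrix (Fin 2) (Fin 2) ↥(fx σ)) := by
  intro v
  have h1 := V.pa c (zv_V c v) y
  rw [zv_of_V c h1]
  unfold zv
  have e0 : (y : Matrix (Fin 2) (Fin 2) ↥(fx σ)).mulVec v 0 = ent y 0 0 * v 0 + ent y 0 1 * v 1 := by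
    rw [Matrix.mulVec, dotProduct, Fin.sum_univ_two]
    rfl
  have e1 : (y : Matrix (Fin 2) (Fin 2) ↥(fx σ)).mulVec v 1 = ent y 1 0 * v 0 + ent y 1 1 * v 1 := by
    rw [Matrix.mulVec, dotProduct, Fin.sum_univ_two]
    rfl
  rw [e0, e1]
  push_cast
  congr 1 <;> congr 1 <;> ring

theorem del_act {s : L} {c1 c6 : E} (h : c.Act s c1 c6) :
    Del c s (Matrix.diagonal ![(⟨c6, h.fix⟩ : ↥(fx σ)) ^ 2 * ⟨nrm σ c1, c.nf c1⟩,
      (⟨c6, h.fix⟩ : ↥(fx σ)) * ⟨nrm σ c1, c.nf c1⟩]) := by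
  intro v
  have h1 := ((zv_V c v).act h).congr rfl rfl (mul_zero _) rfl
  rw [zv_of_V c h1]
  unfold zv
  rw [Matrix.mulVec_diagonal, Matrix.mulVec_diagonal]
  simp only [Matrix.cons_val_zero, Matrix.cons_val_one]
  push_cast
  congr 1
  congr 1
  ring

theorem comm14 : ∀ g ∈ c.X 1, ∀ x ∈ c.X 4, x * g = g * x := by
  intro g hg x hx
  exact comm_of_maps c (c.maps_rot 1) (i := 6) (j := 3) (fun _ hg _ hx => comm63 c hg hx) (by decide +kernel)
    (by decide +kernel) x hx g hg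

theorem comm52 : ∀ g ∈ c.X 5, ∀ x ∈ c.X 2, x * g = g * x := by
  intro g hg x hx
  exact comm_of_maps c (c.maps_rot 2) (i := 6) (j := 9) (fun _ hg _ hx => (comm39 c _ hx _ hg).symm) (by decide +kernel)
    (by decide +kernel) x hx g hg

theorem comm_adj {i j : ZMod (2 * 6)} (h1 : i ≠ j) (h2 : i ≠ j + 6) (h3 : bt i j = ∅) {g x : L} (hg : g ∈ c.X i)
    (hx : x ∈ c.X j) : x * g = g * x := by
  have h4 := c.comm h1 h2 hg hx
  rw [h3] at h4
  have h5 : Sg c.X ∅ = ⊥ := by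
    unfold Sg
    simp
  rw [h5, Subgroup.mem_bot, commutatorElement_eq_one_iff_mul_comm] at h4
  exact h4.symm

theorem del_U {u : L} (hu : u ∈ Sg c.X Qb) : Del c u 1 := by
  intro v
  rw [Matrix.one_mulVec, mul_inv_eq_iff_eq_mul]
  have h1 : Sg c.X Qb ≤ Subgroup.centralizer {zv c v} := by
    refine Sg_le fun k hk g hg => ?_
    rw [Subgroup.mem_centralizer_singleton_iff]
    have m2 : c.x2 (-(v 1 : E)) ∈ c.X 2 := c.mem2 (neg_fix (v 1).2)
    have m4 : c.x4 (v 0 : E) ∈ c.X 4 := c.mem4 (v 0).2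
    have key : ∀ (g : L), c.x2 (-(v 1 : E)) * g = g * c.x2 (-(v 1 : E)) → c.x4 (v 0 : E) * g = g * c.x4 (v 0 : E) →
        g * zv c v = zv c v * g := by
      intro g h2 h4
      unfold zv
      rw [← mul_assoc, ← h2, mul_assoc, ← h4, mul_assoc]
    simp only [Finset.mem_insert, Finset.mem_singleton] at hk
    rcases hk with rfl | rfl | rfl | rfl | rfl
    · exact key g (comm_adj c (by decide) (by decide) (by decide +kernel) hg m2) (comm14 c g hg _ m4)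
    · obtain ⟨t, ht, rfl⟩ := (c.par.mem2 _).1 hg
      refine key _ ?_ ?_
      · rw [← c.x2_add (neg_fix (v 1).2) ht, ← c.x2_add ht (neg_fix (v 1).2), add_comm]
      · exact (comm24 c ht (v 0).2).symm
    · exact key g (comm_adj c (by decide) (by decide) (by decide +kernel) hg m2)
        (comm_adj c (by decide) (by decide) (by decide +kernel) hg m4)
    · obtain ⟨t, ht, rfl⟩ := (c.par.mem4 _).1 hg
      refine key _ ?_ ?_
      · exact comm24 c (neg_fix (v 1).2) ht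
      · rw [← c.x4_add (v 0).2 ht, ← c.x4_add ht (v 0).2, add_comm]
    · exact key g (comm52 c g hg _ m2) (comm_adj c (by decide) (by decide) (by decide +kernel) hg m4)
  exact Subgroup.mem_centralizer_singleton_iff.1 (h1 hu)

theorem exists_del {p : L} (hp : p ∈ PP c) : ∃ m, Del c p m := by
  obtain ⟨u, hu, l, ⟨y, t, ⟨c1, c6, ht⟩, rfl⟩, rfl⟩ := hp
  exact ⟨_, (del_U c hu).mul ((del_pa c y).mul (del_act c ht))⟩

/-- **The quotient `GL₂(F)`.** -/
theorem exists_delta [Finite E] (hne : ∃ t, σ t ≠ t) : ∃ δ : ↥(PP c) →* GL (Fin 2) ↥(fx σ),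
    Function.Surjective δ ∧ (∀ x : ↥(PP c), (x : L) ∈ Sg c.X Qb → δ x = 1) ∧
    (∀ x : ↥(PP c), (x : L) ∈ CC c → ∃ z : (↥(fx σ))ˣ, ((δ x : GL (Fin 2) ↥(fx σ)) : Matrix (Fin 2) (Fin 2) ↥(fx σ)) =
      Matrix.scalar (Fin 2) (z : ↥(fx σ))) ∧
    (∀ (y : SL2 ↥(fx σ)) (x : ↥(PP c)), (x : L) = c.pa y →
      ((δ x : GL (Fin 2) ↥(fx σ)) : Matrix (Fin 2) (Fin 2) ↥(fx σ)) = (y : Matrix (Fin 2) (Fin 2) ↥(fx σ))) ∧
    ∀ x : ↥(PP c), Del c (x : L) ((δ x : GL (Fin 2) ↥(fx σ)) : Matrix (Fin 2) (Fin 2) ↥(fx σ)) := by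
  classical
  choose M hM using fun x : ↥(PP c) => exists_del c x.2
  let f : ↥(PP c) →* Matrix (Fin 2) (Fin 2) ↥(fx σ) :=
    { toFun := M
      map_one' := (hM 1).unique (del_one c)
      map_mul' := fun x y => (hM (x * y)).unique ((hM x).mul (hM y)) }
  let δ : ↥(PP c) →* GL (Fin 2) ↥(fx σ) := f.toHomUnits
  have hδ : ∀ x, ((δ x : GL (Fin 2) ↥(fx σ)) : Matrix (Fin 2) (Fin 2) ↥(fx σ)) = M x := fun x => rfl
  have hD : ∀ x : ↥(PP c), Del c (x : L) ((δ x : GL (Fin 2) ↥(fx σ)) : Matrix (Fin 2) (Fin 2) ↥(fx σ)) := hM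
  refine ⟨δ, ?_, ?_, ?_, ?_, hD⟩
  · intro g
    -- the determinant
    obtain ⟨a, ha⟩ := Cfsg.Agent.OddHalf.DblR.HexG.NormGen.exists_nrm σ c.cube hne
      (s := ((Matrix.det (g : Matrix (Fin 2) (Fin 2) ↥(fx σ)) : ↥(fx σ)) : E)) (Matrix.det (g : Matrix (Fin 2) (Fin 2) ↥(fx σ))).2
    have hdet : Matrix.det (g : Matrix (Fin 2) (Fin 2) ↥(fx σ)) ≠ 0 := (Matrix.GeneralLinearGroup.det g).ne_zero
    have ha0 : a ≠ 0 := by
      rintro rfl
      apply hdet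
      apply Subtype.ext
      rw [← ha]
      unfold nrm
      rw [zero_mul, zero_mul]
      rfl
    have hact := c.act_b a ha0
    have hT : c.pb (dg a ha0) ∈ PP c := T0_le_PP c ⟨_, _, hact⟩
    have hs := (hD ⟨_, hT⟩).unique (del_act c hact)
    obtain ⟨s, hs'⟩ : ∃ s, s = δ ⟨_, hT⟩ := ⟨_, rfl⟩
    rw [← hs'] at hs
    have hds : Matrix.det (s : Matrix (Fin 2) (Fin 2) ↥(fx σ)) = Matrix.det (g : Matrix (Fin 2) (Fin 2) ↥(fx σ)) := by
      rw [hs, Matrix.det_diagonal, Fin.prod_univ_two]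
      apply Subtype.ext
      rw [← ha]
      have hn : nrm σ a ≠ 0 := nrm_ne ha0
      simp only [Matrix.cons_val_zero, Matrix.cons_val_one]
      push_cast
      rw [pow_two a, nrm_mul]
      field_simp
    have hdy : Matrix.det ((g * s⁻¹ : GL (Fin 2) ↥(fx σ)) : Matrix (Fin 2) (Fin 2) ↥(fx σ)) = 1 := by
      have h1 : Matrix.GeneralLinearGroup.det (g * s⁻¹) = 1 := by
        rw [map_mul, map_inv, mul_inv_eq_one]
        apply Units.ext
        exact hds.symm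
      exact congrArg Units.val h1
    refine ⟨⟨c.pa ⟨_, hdy⟩ * c.pb (dg a ha0), mul_mem (pa_mem_PP c _) hT⟩, ?_⟩
    apply Units.ext
    have h2 := (hD ⟨_, hT⟩)
    rw [← hs'] at h2
    have h3 := (hD ⟨c.pa ⟨_, hdy⟩ * c.pb (dg a ha0), mul_mem (pa_mem_PP c _) hT⟩).unique ((del_pa c ⟨_, hdy⟩).mul h2)
    rw [h3]
    show ((g * s⁻¹ : GL (Fin 2) ↥(fx σ)) : Matrix (Fin 2) (Fin 2) ↥(fx σ)) * (s : Matrix (Fin 2) (Fin 2) ↥(fx σ)) = g
    rw [← Units.val_mul, inv_mul_cancel_right]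
  · intro x hx
    apply Units.ext
    exact (hD x).unique (del_U c hx)
  · rintro x ⟨c1, hx⟩
    have hn0 : (⟨nrm σ c1, c.nf c1⟩ : ↥(fx σ)) ≠ 0 := fun h => nrm_ne (σ := σ) hx.ne1 (congrArg Subtype.val h)
    refine ⟨Units.mk0 _ hn0, ?_⟩
    rw [(hD x).unique (del_act c hx)]
    ext i j
    fin_cases i <;> fin_cases j <;> simp [Matrix.diagonal]
  · intro y x hx
    have h1 := hD x
    rw [hx] at h1
    exact h1.unique (del_pa c y)

end Cfsg.Agent.H384.HT.Tri
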