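import Cfsg.Agent.H148.HT.DatDef
import Cfsg.Agent.H148.Even

/-!
# S4933, `³D₄(q)`, `3 ∣ q + 1`: the opposite radical (helper384)

* `fix_Qb`, `fix_Qb'` : a torus element `s`, `c.Act s a 1`, `N a = 1`, `a ≠ 1`, fixes in the radical only `X 2 X 4` (in the opposite
  radical only `X 8 X 10`);
* `not_big` : these elements are not in `P w P`;
* `card_big` : the number of elements of the opposite radical in `P w P` is `1` modulo `3`.
-/

set_option autoImplicit false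

namespace Cfsg.Agent.H384.HT.Tri

open Cfsg.Agent.SplitTwo Cfsg.Agent.TitsThree.RankTwoZ Cfsg.Agent.Lib.SL2Mat Cfsg.Agent.Cit.HexBase
  Cfsg.Agent.Cit.HexBase.HexGrp Cfsg.Agent.H148.SLTwo Cfsg.Agent.H148.Hex Cfsg.Agent.H148.HT Cfsg.Agent.H912.HT

universe u

variable {E : Type*} [Field E] {σ : E ≃+* E} {L : Type u} [Group L] (c : HexGrp σ L)

/-! ### Torus elements of norm one -/

/-- `N a = 1` gives `shp a = a⁻¹` -/
theorem shp_of_nrm {a : E} (h : nrm σ a = 1) : a * shp σ a = 1 := by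
  rw [← h]
  unfold nrm shp
  ring

theorem fix_Qb {s y : L} {a : E} (hs : c.Act s a 1) (hn : nrm σ a = 1) (ha : a ≠ 1) (hy : y ∈ Sg c.X Qb)
    (h : s * y * s⁻¹ = y) : y ∈ Sg c.X {2, 4} := by
  obtain ⟨a5, a1, hW⟩ := exists_W c hy
  obtain ⟨e5, e1⟩ := hW.unique ((hW.act hs).congr h rfl rfl)
  have hz : ∀ t : E, t = a * t → t = 0 := by
    intro t ht
    have h1 : (1 - a) * t = 0 := by linear_combination ht
    exact (mul_eq_zero.1 h1).resolve_left (sub_ne_zero.2 (Ne.symm ha))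
  have z5 : a5 = 0 := hz _ (by linear_combination e5)
  have z1 : a1 = 0 := hz _ (by linear_combination e1)
  obtain ⟨t2, b, t4, hV⟩ := exists_V c (hW.mem0 z5 z1)
  obtain ⟨-, e3, -⟩ := hV.unique ((hV.act hs).congr h rfl rfl rfl)
  have zb : b = 0 := hz b (by
    have h1 := shp_of_nrm hn
    linear_combination -a * e3 - b * h1)
  obtain ⟨h2, h4, he⟩ := hV
  rw [he, zb, c.x3_zero, mul_one]
  exact mul_mem (X_le_Sg (by decide) (c.mem2 h2)) (X_le_Sg (by decide) (c.mem4 h4))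

/-- conjugation by `n3` -/
theorem n3_Qb' {y : L} (hy : y ∈ Sg c.X Qb') : n3 c * y * (n3 c)⁻¹ ∈ Sg c.X Qb :=
  conj_Sg (maps_n3 c) (by decide +kernel) hy

theorem n3_Qb {y : L} (hy : y ∈ Sg c.X Qb) : n3 c * y * (n3 c)⁻¹ ∈ Sg c.X Qb' :=
  conj_Sg (maps_n3 c) (by decide +kernel) hy

theorem n3_inv_Qb {y : L} (hy : y ∈ Sg c.X Qb) : (n3 c)⁻¹ * y * n3 c ∈ Sg c.X Qb' := by
  have h1 := conj_Sg (maps_n3_inv c) (s := Qb) (t := Qb') (by decide +kernel) hy
  rwa [inv_inv] at h1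

theorem fix_Qb' {s y : L} {a : E} (hs : c.Act s a 1) (hn : nrm σ a = 1) (ha : a ≠ 1) (hy : y ∈ Sg c.X Qb')
    (h : s * y * s⁻¹ = y) : y ∈ Sg c.X {8, 10} := by
  have ha0 : a ≠ 0 := hs.ne1
  have h1 := Act.n3 hs
  have h2 : n3 c * s * (n3 c)⁻¹ * (n3 c * y * (n3 c)⁻¹) * (n3 c * s * (n3 c)⁻¹)⁻¹ = n3 c * y * (n3 c)⁻¹ := by
    calc _ = n3 c * (s * y * s⁻¹) * (n3 c)⁻¹ := by group
      _ = _ := by rw [h]
  have h3 : nrm σ (1 * a)⁻¹ = 1 := by rw [one_mul, nrm_inv, hn, inv_one]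
  have h4 : (1 * a)⁻¹ ≠ 1 := by
    rw [one_mul]
    intro h5
    exact ha (inv_eq_one.1 h5)
  have h5 := fix_Qb c h1 h3 h4 (n3_Qb' c hy) h2
  have h6 := conj_Sg (maps_n3_inv c) (s := {2, 4}) (t := {8, 10}) (by decide +kernel) h5
  have h7 : (n3 c)⁻¹ * (n3 c * y * (n3 c)⁻¹) * (n3 c)⁻¹⁻¹ = y := by group
  rwa [h7] at h6

/-! ### Elements outside `P w P` -/

/-- `X 10` and `X 1` commute -/
theorem comm10_1 : ∀ g ∈ c.X 10, ∀ x ∈ c.X 1, g * x = x * g :=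
  comm_of_maps c (c.maps_ref 5) (i := 6) (j := 3) (fun _ hg _ hx => comm63 c hg hx) (by decide +kernel)
    (by decide +kernel)

/-- an element commuting with an element of the radical is not in `P w P` -/
theorem not_big_of_comm {P U Lv C : Subgroup L} {w : L} (D : Dat P U Lv C w) {y u : L} (hu : u ∈ U) (h1 : u ≠ 1)
    (h : y * u = u * y) : ¬ Big P w y := by
  rintro ⟨a, ha, b, hb, rfl⟩
  apply h1
  have h2 : w * (b * u * b⁻¹) * w⁻¹ = a⁻¹ * u * a := by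
    calc w * (b * u * b⁻¹) * w⁻¹ = a⁻¹ * ((a * w * b) * u) * b⁻¹ * w⁻¹ := by group
      _ = a⁻¹ * (u * (a * w * b)) * b⁻¹ * w⁻¹ := by rw [h]
      _ = _ := by group
  have h3 := D.opp (b * u * b⁻¹) (D.norm b hb u hu) (by
    rw [h2]
    exact mul_mem (mul_mem (inv_mem ha) (D.U_le hu)) ha)
  rw [conj_eq_one_iff] at h3
  exact h3

theorem Big.conj {P : Subgroup L} {w y p : L} (hp : p ∈ P) (h : Big P w y) : Big P w (p * y * p⁻¹) := by
  obtain ⟨a, ha, b, hb, rfl⟩ := h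
  exact ⟨p * a, mul_mem hp ha, b * p⁻¹, mul_mem hb (inv_mem hp), by group⟩

/-- the coordinates of `X 2 X 4` -/
theorem mid_zero {z : L} (hz : z ∈ Sg c.X {2, 4}) : ∃ t2 t4, V c z t2 0 t4 := by
  let K : Subgroup L :=
    { carrier := {g | ∃ t2 t4, V c g t2 0 t4}
      mul_mem' := by
        rintro a b ⟨t2, t4, h⟩ ⟨s2, s4, h'⟩
        exact ⟨_, _, (h.mul h').congr rfl rfl (add_zero 0) rfl⟩
      one_mem' := ⟨_, _, V.zero⟩
      inv_mem' := by
        rintro a ⟨t2, t4, h⟩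
        obtain ⟨s2, d, s4, h'⟩ := exists_V c (inv_mem h.mem)
        have h1 := (h.mul h').congr (mul_inv_cancel a) rfl rfl rfl
        have h2 := (h1.unique V.zero).2.1
        rw [zero_add] at h2
        subst h2
        exact ⟨_, _, h'⟩ }
  have h1 : Sg c.X {2, 4} ≤ K := by
    refine Sg_le fun k hk g hg => ?_
    rcases Finset.mem_insert.1 hk with rfl | hk
    · obtain ⟨t, ht, rfl⟩ := (c.par.mem2 _).1 hg
      exact ⟨_, _, v2 c ht⟩
    · rw [Finset.mem_singleton] at hk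
      subst hk
      obtain ⟨t, ht, rfl⟩ := (c.par.mem4 _).1 hg
      exact ⟨_, _, v4 c ht⟩
  exact h1 hz

theorem exists_pa_two {z : L} (hz : z ∈ Sg c.X {2, 4}) : ∃ m : SL2 ↥(fx σ), c.pa m * z * (c.pa m)⁻¹ ∈ c.X 2 := by
  obtain ⟨t2, b, t4, hV⟩ := exists_V c (Sg_mono (by decide) hz)
  have hb : b = 0 := by
    have h1 := mid_zero c hz
    obtain ⟨s2, s4, h2⟩ := h1
    exact (hV.unique h2).2.1
  subst hb
  have key : ∀ m : SL2 ↥(fx σ), ((ent m 0 0 : ↥(fx σ)) : E) * t4 - ((ent m 0 1 : ↥(fx σ)) : E) * t2 = 0 →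
      c.pa m * z * (c.pa m)⁻¹ ∈ c.X 2 := by
    intro m hm
    obtain ⟨h2, -, he⟩ := V.pa c hV m
    rw [he, hm, c.x3_zero, c.x4_zero, mul_one, mul_one]
    exact c.mem2 h2
  by_cases h0 : t2 = 0
  · refine ⟨wm 1 one_ne_zero, key _ ?_⟩
    rw [h0]
    simp
  · refine ⟨up (⟨t4 / t2, by
      rw [mem_fx, map_div₀, hV.2.1, hV.1]⟩), key _ ?_⟩
    simp
    field_simp
    ring

theorem not_big {Lv C : Subgroup L} (D : Dat (PP c) (Sg c.X Qb) Lv C (n3 c)) {y : L} (hy : y ∈ Sg c.X {8, 10}) :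
    ¬ Big (PP c) (n3 c) y := by
  have h1 : n3 c * y * (n3 c)⁻¹ ∈ Sg c.X {2, 4} :=
    conj_Sg (maps_n3 c) (by decide +kernel) hy
  obtain ⟨m, hm⟩ := exists_pa_two c h1
  have h2 : c.pa m * y * (c.pa m)⁻¹ ∈ c.X 10 := by
    have h3 := maps_mem (maps_n3_inv c) hm (j := 10) (by decide +kernel)
    have h4 : (n3 c)⁻¹ * (c.pa m * (n3 c * y * (n3 c)⁻¹) * (c.pa m)⁻¹) * (n3 c)⁻¹⁻¹ = c.pa m * y * (c.pa m)⁻¹ := by
      have h5 : n3 c * c.pa m = c.pa m * n3 c := mul_inv_eq_iff_eq_mul.1 (comm_pa_n3 c m)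
      calc (n3 c)⁻¹ * (c.pa m * (n3 c * y * (n3 c)⁻¹) * (c.pa m)⁻¹) * (n3 c)⁻¹⁻¹
          = (n3 c)⁻¹ * (c.pa m * n3 c) * y * ((c.pa m * n3 c)⁻¹ * n3 c) := by group
        _ = _ := by rw [← h5]; group
    rwa [h4] at h3
  intro hB
  refine not_big_of_comm D (u := c.x1 1) (X_le_Sg (by decide) (c.mem1 1)) (fun h => ?_)
    (comm10_1 c _ h2 _ (c.mem1 1)) (Big.conj (pa_mem_PP c m) hB)
  rw [← c.x1_zero] at h
  exact one_ne_zero (c.x1_inj h)

/-! ### The number of elements in `P w P` -/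

/-- an element of order 3 of `SL₂` -/
def m3 (K : Type*) [Field K] : SL2 K := mk 0 (-1) 1 (-1) (by ring)

theorem m3_cube {K : Type*} [Field K] : m3 K * m3 K * m3 K = 1 := by
  unfold m3
  refine ext_ent ?_ ?_ ?_ ?_ <;> simp [ent_mul]

theorem lo_eq {K : Type*} [Field K] {t : K} (ht : t ≠ 0) :
    lo t = up (t⁻¹) * dg (-t⁻¹) (neg_ne_zero.2 (inv_ne_zero ht)) * wm 1 one_ne_zero * up (t⁻¹) := by
  refine ext_ent ?_ ?_ ?_ ?_ <;> simp [ent_mul, ht]

theorem mem9 {y : L} (hy : y ∈ c.X 9) : ∃ t : E, y = p3 c (lo t) := by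
  have h1 : Maps c.X (c.n1 * c.n6)⁻¹ (fun k => k - 2) := c.maps_rot2.inv fun k => by ring
  have h2 := maps_mem h1 hy (j := 7) (by decide +kernel)
  obtain ⟨t, ht⟩ := (c.pb_lo _).1 h2
  refine ⟨t, ?_⟩
  rw [p3_apply, ht]
  group

theorem p3_lo_inj {t s : E} (h : p3 c (lo t) = p3 c (lo s)) : t = s := by
  have h1 : c.pb (lo t) = c.pb (lo s) := by
    rw [p3_apply, p3_apply] at h
    exact mul_left_cancel (mul_right_cancel h)
  have h2 := congrArg (fun g => c.pb (wm 1 one_ne_zero) * g * (c.pb (wm 1 one_ne_zero))⁻¹) h1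
  simp only [← map_mul, ← map_inv, wm_lo', c.pb_up] at h2
  have h3 := c.x1_inj h2
  linear_combination -h3

theorem big_of_nine {y : L} (hy : y ∈ c.X 9) (h1 : y ≠ 1) : Big (PP c) (n3 c) y := by
  obtain ⟨t, rfl⟩ := mem9 c hy
  have ht : t ≠ 0 := by
    rintro rfl
    apply h1
    rw [lo_zero, map_one]
  refine ⟨p3 c (up t⁻¹) * p3 c (dg (-t⁻¹) (neg_ne_zero.2 (inv_ne_zero ht))), ?_, p3 c (up t⁻¹), ?_, ?_⟩
  · exact mul_mem (U_le_PP c (X_le_Sg (by decide) (p3_up_mem c _))) (T0_le_PP c ⟨_, _, act_p3_dg c _ _⟩)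
  · exact U_le_PP c (X_le_Sg (by decide) (p3_up_mem c _))
  · conv_lhs => rw [lo_eq ht, map_mul, map_mul, map_mul]
    rfl

theorem not_big_one {Lv C : Subgroup L} (D : Dat (PP c) (Sg c.X Qb) Lv C (n3 c)) : ¬ Big (PP c) (n3 c) (1 : L) :=
  not_big c D (one_mem _)

/-- the elements of the opposite radical fixed by `pa m3` -/
theorem fix_m3 (h3 : (3 : E) ≠ 0) {y : L} (hy : y ∈ Sg c.X Qb') (h : c.pa (m3 _) * y * (c.pa (m3 _))⁻¹ = y) :
    y ∈ c.X 9 := by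
  have hz : n3 c * y * (n3 c)⁻¹ ∈ Sg c.X Qb := n3_Qb' c hy
  have h2 : c.pa (m3 _) * (n3 c * y * (n3 c)⁻¹) * (c.pa (m3 _))⁻¹ = n3 c * y * (n3 c)⁻¹ := by
    have h5 : n3 c * c.pa (m3 _) = c.pa (m3 _) * n3 c := mul_inv_eq_iff_eq_mul.1 (comm_pa_n3 c (m3 _))
    calc c.pa (m3 _) * (n3 c * y * (n3 c)⁻¹) * (c.pa (m3 _))⁻¹
        = (c.pa (m3 _) * n3 c) * y * (c.pa (m3 _) * n3 c)⁻¹ := by group
      _ = n3 c * (c.pa (m3 _) * y * (c.pa (m3 _))⁻¹) * (n3 c)⁻¹ := by rw [← h5]; group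
      _ = _ := by rw [h]
  obtain ⟨a5, a1, hW⟩ := exists_W c hz
  obtain ⟨e5, e1⟩ := hW.unique ((hW.pa (m3 _)).congr h2 rfl rfl)
  simp only [m3, mk_00, mk_01, mk_10, mk_11] at e5 e1
  push_cast at e5 e1
  obtain ⟨z5, z1⟩ := lin_zero (u := a5) (v := a1) (a := 0) (b := -1) (d := 1) (e := -1) (by linear_combination e5)
    (by linear_combination e1) (by
      intro h
      apply h3
      linear_combination h)
  obtain ⟨t2, b, t4, hV⟩ := exists_V c (hW.mem0 z5 z1)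
  obtain ⟨e2, -, e4⟩ := hV.unique ((V.pa c hV (m3 _)).congr h2 rfl rfl rfl)
  simp only [m3, mk_00, mk_01, mk_10, mk_11] at e2 e4
  push_cast at e2 e4
  obtain ⟨z2, z4⟩ := lin_zero (u := t2) (v := t4) (a := -1) (b := -1) (d := 1) (e := 0) (by linear_combination e2)
    (by linear_combination e4) (by
      intro h
      apply h3
      linear_combination h)
  have h6 : n3 c * y * (n3 c)⁻¹ ∈ c.X 3 := by
    rw [hV.2.2, z2, z4, c.x2_zero, c.x4_zero, one_mul, mul_one]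
    exact c.mem3 b
  have h7 := maps_mem (maps_n3_inv c) h6 (j := 9) (by decide +kernel)
  have h8 : (n3 c)⁻¹ * (n3 c * y * (n3 c)⁻¹) * (n3 c)⁻¹⁻¹ = y := by group
  rwa [h8] at h7

theorem three_ne [Finite E] (h3 : 3 ∣ Nat.card E + 1) : (3 : E) ≠ 0 := by
  intro h
  have h1 : addOrderOf (1 : E) ∣ 3 := by
    rw [addOrderOf_dvd_iff_nsmul_eq_zero]
    rw [nsmul_eq_mul, mul_one]
    exact_mod_cast h
  have h2 : addOrderOf (1 : E) ∣ Nat.card E := addOrderOf_dvd_natCard 1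
  rcases (Nat.dvd_prime Nat.prime_three).1 h1 with h4 | h4
  · rw [AddMonoid.addOrderOf_eq_one_iff] at h4
    exact one_ne_zero h4
  · rw [h4] at h2
    have h5 := (Nat.dvd_add_right h2).1 h3
    omega

/-- **The number of elements of the opposite radical in `P w P`.** -/
theorem card_big [Finite L] [Finite E] {Lv C : Subgroup L} (D : Dat (PP c) (Sg c.X Qb) Lv C (n3 c))
    (h3 : 3 ∣ Nat.card E + 1) : Nat.card {y : L // y ∈ Sg c.X Qb' ∧ Big (PP c) (n3 c) y} % 3 = 1 := by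
  classical
  have hne := three_ne (E := E) h3
  have : Fintype L := Fintype.ofFinite L
  obtain ⟨h, hh⟩ : ∃ h : L, h = c.pa (m3 _) := ⟨_, rfl⟩
  have hh3 : h * h * h = 1 := by rw [hh, ← map_mul, ← map_mul, m3_cube, map_one]
  have hP : h ∈ PP c := by
    rw [hh]
    exact pa_mem_PP c _
  have hQ : ∀ y ∈ Sg c.X Qb', h * y * h⁻¹ ∈ Sg c.X Qb' := by
    intro y hy
    rw [hh]
    exact pa_conj c (by decide +kernel) (by decide +kernel) _ y hy
  let f : Function.End {y : L // y ∈ Sg c.X Qb' ∧ Big (PP c) (n3 c) y} := fun y =>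
    ⟨h * y * h⁻¹, hQ _ y.2.1, Big.conj hP y.2.2⟩
  have hf : f ^ 3 ^ 1 = 1 := by
    funext y
    apply Subtype.ext
    show h * (h * (h * (y : L) * h⁻¹) * h⁻¹) * h⁻¹ = y
    calc h * (h * (h * (y : L) * h⁻¹) * h⁻¹) * h⁻¹ = (h * h * h) * y * (h * h * h)⁻¹ := by group
      _ = y := by rw [hh3, one_mul, inv_one, mul_one]
  have : Fact (Nat.Prime 3) := ⟨Nat.prime_three⟩
  have : Finite {y : L // y ∈ Sg c.X Qb' ∧ Big (PP c) (n3 c) y} := inferInstance
  have : Fintype {y : L // y ∈ Sg c.X Qb' ∧ Big (PP c) (n3 c) y} := Fintype.ofFinite _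
  have hmod := Equiv.Perm.card_fixedPoints_modEq (p := 3) (n := 1) hf
  -- the fixed points
  have hfix : Nat.card (Function.fixedPoints f) = Nat.card {b : E // b ≠ 0} := by
    symm
    refine Nat.card_congr (Equiv.ofBijective (fun b : {b : E // b ≠ 0} => (⟨⟨p3 c (lo b.1), ?_, ?_⟩, ?_⟩ :
      Function.fixedPoints f)) ⟨?_, ?_⟩)
    · exact X_le_Sg (by decide) (p3_lo_mem c b.1)
    · refine big_of_nine c (p3_lo_mem c b.1) fun h0 => b.2 ?_
      rw [← map_one (p3 c), ← lo_zero] at h0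
      exact p3_lo_inj c h0
    · apply Subtype.ext
      show h * p3 c (lo b.1) * h⁻¹ = p3 c (lo b.1)
      rw [hh, comm_pa_p3, mul_inv_cancel_right]
    · intro b b' hb
      have h1 : p3 c (lo b.1) = p3 c (lo b'.1) := congrArg (fun z : Function.fixedPoints f => (z.1.1 : L)) hb
      exact Subtype.ext (p3_lo_inj c h1)
    · rintro ⟨⟨y, hy, hB⟩, hfy⟩
      have h1 : h * y * h⁻¹ = y := congrArg Subtype.val hfy
      rw [hh] at h1
      obtain ⟨t, ht⟩ := mem9 c (fix_m3 c hne hy h1)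
      refine ⟨⟨t, ?_⟩, ?_⟩
      · rintro rfl
        rw [lo_zero, map_one] at ht
        rw [ht] at hB
        exact not_big_one c D hB
      · apply Subtype.ext
        apply Subtype.ext
        exact ht.symm
  have hE : Nat.card {b : E // b ≠ 0} + 1 = Nat.card E := by
    have : Fintype E := Fintype.ofFinite E
    rw [Nat.card_eq_fintype_card, Nat.card_eq_fintype_card, Fintype.card_subtype_compl, Fintype.card_subtype_eq]
    have := Fintype.card_pos (α := E)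
    omega
  rw [← Nat.card_eq_fintype_card, ← Nat.card_eq_fintype_card, hfix] at hmod
  unfold Nat.ModEq at hmod
  omega

end Cfsg.Agent.H384.HT.Tri
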